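import Groth.Agent.Sga4B.FinExact
import Groth.Agent.S0071

/-!
# The finite-constant comparison criterion for locally `ℓ`-power-torsion sheaves

`bijective_of_locTorsion`: the criterion of S3118, for abelian sheaves every section of which is
killed by a power of `ℓ` *locally* for the etale topology (no uniform exponent is assumed or
derived): such a sheaf is a filtered colimit of constructible sheaves killed by powers of `ℓ`, and
etale cohomology of qcqs schemes commutes with filtered colimits.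
-/

set_option autoImplicit false
universe u
open CategoryTheory CategoryTheory.Limits AlgebraicGeometry Opposite
open EtPBC

namespace Groth.Agent.EtPBC.K257.LocTors

open Groth.Agent Groth.Agent.Sga4B Groth.Agent.Sga4B.Dev65

attribute [local instance 3000] hasSheafify
attribute [local instance 3000] hasExt
attribute [local instance] exactPull

theorem finExact : FinExact.{u} :=
  Groth.Agent.Sga4B.FinExact.finExact_of_Rpush
    (fun f _ F => Groth.Agent.S0071.result f F 1 le_rfl)

/-- The powers of a positive integer are directed for divisibility. -/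
theorem dir_powers {ℓ : ℕ} (hℓ : 0 < ℓ) : EtpbcA.TorsionColim.Dir {m : ℕ | ∃ k, m = ℓ ^ k} where
  pos := by
    rintro _ ⟨k, rfl⟩
    exact pow_pos hℓ k
  nonempty := ⟨1, 0, (pow_zero ℓ).symm⟩
  dir := by
    rintro _ ⟨a, rfl⟩ _ ⟨b, rfl⟩
    exact ⟨ℓ ^ (a + b), ⟨a + b, rfl⟩, pow_dvd_pow _ (Nat.le_add_right a b),
      pow_dvd_pow _ (Nat.le_add_left b a)⟩

variable {X Y : Scheme.{u}} {h : Y ⟶ X} {ℓ n : ℕ}

/-- From sheaves killed by a power of `ℓ` to sheaves which are locally `ℓ`-power torsion. -/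
theorem main_of_locTorsion [CompactSpace X] [QuasiSeparatedSpace X] [CompactSpace Y]
    [QuasiSeparatedSpace Y] (hℓ : ℓ.Prime) (hfin : FinExact.{u}) (hcol : ColimCoh.{u})
    (hb : HypB h ℓ n) (F : EtCoh.Ab X)
    (hF : ∀ (U : X.Etale) (s : EtCoh.sect F U) (x : U.left), ∃ (V : X.Etale) (g : V ⟶ U)
      (v : V.left), g.left v = x ∧ ∃ k : ℕ, ℓ ^ k • F.obj.map g.op s = 0) :
    (∀ q ≤ n, Function.Bijective (ExtCmp.cmp (EtCoh.pull h) (EtCore.pullConst h ℤ).inv F q)) ∧
      Function.Injective (ExtCmp.cmp (EtCoh.pull h) (EtCore.pullConst h ℤ).inv F (n + 1)) := by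
  obtain ⟨J, _, _, D, c, hc, hD, ⟨e⟩⟩ := EtpbcA.TorsionColim.exists_filtered_consM
    (dir_powers hℓ.pos) F (by
      intro U s x
      obtain ⟨V, g, v, hv, k, hk⟩ := hF U s x
      exact ⟨V, g, v, hv, ℓ ^ k, ⟨k, rfl⟩, hk⟩)
  have hm := fun j => main hℓ hfin hcol hb (D.obj j) (by
    obtain ⟨-, _, ⟨k, rfl⟩, hk⟩ := hD j
    exact ⟨k, (TorsionFree.killedBy_iff _ _).1 hk⟩)
  refine ⟨fun q hq => ⟨?_, ?_⟩, ?_⟩
  · have := hcol X q J
    have := hcol Y q J
    exact ExtCmp.injective_of_iso (EtCoh.pull h) _ e q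
      (injective_colim h hc q fun j => ((hm j).1 q hq).1)
  · have := hcol X q J
    have := hcol Y q J
    exact ExtCmp.surjective_of_iso (EtCoh.pull h) _ e q
      (surjective_colim h hc q fun j => ((hm j).1 q hq).2)
  · have := hcol X (n + 1) J
    have := hcol Y (n + 1) J
    exact ExtCmp.injective_of_iso (EtCoh.pull h) _ e (n + 1)
      (injective_colim h hc (n + 1) fun j => (hm j).2)

/-- **The criterion for locally `ℓ`-power-torsion sheaves.** -/
theorem bijective_of_locTorsion (h : Y ⟶ X)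
    [CompactSpace X] [QuasiSeparatedSpace X] [CompactSpace Y] [QuasiSeparatedSpace Y]
    (ℓ : ℕ) (hℓ : ℓ.Prime) (n : ℕ)
    (hb : ∀ (X' : Scheme.{u}) (p : X' ⟶ X) [IsFinite p] [EtCoh.BCCont (pullback.fst p h)]
      [PreservesFiniteLimits (EtCoh.pull (pullback.fst p h))] (ν : ℕ),
      Function.Injective (EtCore.Hpull (pullback.fst p h) (EtCoh.const X' (ZMod (ℓ ^ ν))) 0) ∧
      ∀ i ≤ n, Function.Surjective (EtCore.Hpull (pullback.fst p h) (EtCoh.const X' (ZMod (ℓ ^ ν))) i))
    [PreservesFiniteLimits (EtCoh.pull h)] (F : EtCoh.Ab X)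
    (hF : ∀ (U : X.Etale) (s : EtCoh.sect F U) (x : U.left), ∃ (V : X.Etale) (g : V ⟶ U)
      (v : V.left), g.left v = x ∧ ∃ k : ℕ, ℓ ^ k • F.obj.map g.op s = 0) :
    (∀ i ≤ n, Function.Bijective (EtCore.Hpull h F i)) ∧
      Function.Injective (EtCore.Hpull h F (n + 1)) := by
  have hb' : HypB h ℓ n := by
    intro X' p _ ν
    have h1 := hb X' p ν
    refine ⟨?_, fun i hi => ?_⟩
    · have h2 := h1.1
      rw [HpullSquare.Hpull_eq_cmp] at h2
      exact h2
    · have h2 := h1.2 i hi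
      rw [HpullSquare.Hpull_eq_cmp] at h2
      exact h2
  have hm := main_of_locTorsion hℓ finExact Groth.Agent.Sga4B.FinExact.colimCoh hb' F hF
  refine ⟨fun i hi => ?_, ?_⟩
  · rw [HpullSquare.Hpull_eq_cmp]
    exact hm.1 i hi
  · rw [HpullSquare.Hpull_eq_cmp]
    exact hm.2

end Groth.Agent.EtPBC.K257.LocTors
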